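import Groth.Agent.GrpField.AbelianField
import Mathlib.AlgebraicGeometry.Fiber
import Mathlib.AlgebraicGeometry.Morphisms.FlatDescent
import Mathlib.AlgebraicGeometry.Morphisms.QuasiFinite

/-!
# Base change of homomorphisms and of their fibres
-/

universe u

open CategoryTheory CategoryTheory.Limits MonoidalCategory CartesianMonoidalCategory MonObj AlgebraicGeometry

noncomputable section

namespace Groth.Agent.GrpLoc

variable {S S' : Scheme.{u}} (σ : S' ⟶ S) {A B : Over S} (f : A ⟶ B)

theorem bc_fst : ((Over.pullback σ).map f).left ≫ pullback.fst B.hom σ = pullback.fst A.hom σ ≫ f.left := by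
  exact pullback.lift_fst _ _ _

/-- The square comparing a map with its base change. -/
theorem isPullback_bc :
    IsPullback (pullback.fst A.hom σ) ((Over.pullback σ).map f).left f.left (pullback.fst B.hom σ) := by
  refine IsPullback.of_bot ?_ (bc_fst σ f).symm (IsPullback.of_hasPullback B.hom σ)
  have h : ((Over.pullback σ).map f).left ≫ pullback.snd B.hom σ = pullback.snd A.hom σ :=
    Over.w ((Over.pullback σ).map f)
  rw [h, Over.w f]
  exact IsPullback.of_hasPullback A.hom σ

omit σ f in
/-- A property of a fibre of a base change passes to the fibre. -/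
theorem fibre_of_isPullback (P : MorphismProperty Scheme.{u})
    [P.DescendsAlong (@Surjective ⊓ @Flat ⊓ @QuasiCompact)]
    {X Y X' Y' : Scheme.{u}} {g : X' ⟶ X} {f' : X' ⟶ Y'} {f : X ⟶ Y} {h : Y' ⟶ Y}
    (sq : IsPullback g f' f h) (y' : Y') (H : P (f'.fiberToSpecResidueField y')) :
    P (f.fiberToSpecResidueField (h y')) := by
  have sq' := isPullback_fiberToSpecResidueField_of_isPullback sq y'
  refine MorphismProperty.of_isPullback_of_descendsAlong (Q := @Surjective ⊓ @Flat ⊓ @QuasiCompact)
    sq'.flip ⟨⟨?_, ?_⟩, inferInstance⟩ H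
  · exact (inferInstance : GrpField.PointBase (Spec (CommRingCat.of (Y.residueField (h y'))))).surj
      (Y'.residueField y') _
  · exact Flat.SpecMap_iff.2 (RingHom.Flat.of_isField (Field.toIsField _) _)

omit σ f in
/-- A property of all fibres of a base change by a surjective map passes to the fibres. -/
theorem fibres_of_isPullback (P : MorphismProperty Scheme.{u})
    [P.DescendsAlong (@Surjective ⊓ @Flat ⊓ @QuasiCompact)]
    {X Y X' Y' : Scheme.{u}} {g : X' ⟶ X} {f' : X' ⟶ Y'} {f : X ⟶ Y} {h : Y' ⟶ Y}
    (sq : IsPullback g f' f h) [Surjective h]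
    (H : ∀ y', P (f'.fiberToSpecResidueField y')) (y : Y) : P (f.fiberToSpecResidueField y) := by
  obtain ⟨y', rfl⟩ := h.surjective y
  exact fibre_of_isPullback P sq y' (H y')

omit σ f in
/-- Locally quasi-finite descends along surjective base changes. -/
theorem locallyQuasiFinite_of_isPullback
    {X Y X' Y' : Scheme.{u}} {g : X' ⟶ X} {f' : X' ⟶ Y'} {f : X ⟶ Y} {h : Y' ⟶ Y}
    (sq : IsPullback g f' f h) [Surjective h] [LocallyOfFiniteType f] [LocallyQuasiFinite f'] :
    LocallyQuasiFinite f := by
  rw [locallyQuasiFinite_iff_isDiscrete_preimage_singleton]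
  intro y
  obtain ⟨y', rfl⟩ := h.surjective y
  have sq' := isPullback_fiberToSpecResidueField_of_isPullback sq y'
  have : DiscreteTopology ↥(f'.fiber y') := inferInstance
  have hP : GrpField.PointBase (Spec (CommRingCat.of (Y.residueField (h y')))) := inferInstance
  have hl : UniversallyOpen (Spec.map (h.residueFieldMap y')) := hP.uopen (Y'.residueField y') _
  have hs : Surjective (Spec.map (h.residueFieldMap y')) := hP.surj (Y'.residueField y') _
  let q := sq'.isoPullback.inv
  obtain ⟨r, hopen, hsurj⟩ : ∃ r : f'.fiber y' ⟶ f.fiber (h y'), IsOpenMap r ∧ Function.Surjective r := by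
    have h1 := MorphismProperty.of_isPullback (P := @UniversallyOpen) sq'.flip hl
    refine ⟨_, @Scheme.Hom.isOpenMap _ _ _ h1, ?_⟩
    have h2 := MorphismProperty.of_isPullback (P := @Surjective) sq'.flip hs
    exact h2.surj
  have : DiscreteTopology ↥(f.fiber (h y')) := by
    refine discreteTopology_iff_isOpen_singleton.2 fun z => ?_
    obtain ⟨w, rfl⟩ := hsurj z
    rw [← Set.image_singleton]
    exact hopen _ (isOpen_discrete _)
  simpa [Scheme.Hom.range_fiberι] using
    (isDiscrete_univ_iff.mpr this).image (f.fiberι (h y')).isEmbedding.toIsInducing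

end Groth.Agent.GrpLoc
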