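import Groth.Agent.GrpLoc.Point
import Groth.Agent.GrpField.FibreHom
import Groth.Agent.FibreFlat.PointCrit
import Groth.Agent.LimDesc.FPCancel
import Groth.Agent.LimMore.Smooth
import Groth.Agent.UnramPt.Basic
import Groth.Agent.EtaleSections.Basic
import Mathlib.AlgebraicGeometry.ZariskisMainTheorem

/-!
# The loci where a homomorphism of group schemes is flat, smooth, etale, unramified, quasi-finite
-/

universe u

open CategoryTheory CategoryTheory.Limits MonoidalCategory CartesianMonoidalCategory MonObj AlgebraicGeometry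
open scoped CategoryTheory.Obj

set_option backward.isDefEq.respectTransparency false

namespace Groth.Agent.GrpLoc

open Groth.Agent.GrpField

variable {S : Scheme.{u}} {G H : Over S} (u : G ⟶ H)

theorem exists_fib_point (G : Over S) (x : G.left) :
    ∃ x' : (fib G (G.hom x)).left, pullback.fst G.hom (S.fromSpecResidueField (G.hom x)) x' = x := by
  have : x ∈ Set.range (pullback.fst G.hom (S.fromSpecResidueField (G.hom x))) := by
    rw [Scheme.Pullback.range_fst, Scheme.range_fromSpecResidueField]
    exact rfl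
  exact this

/-- a property on a neighbourhood of `x` gives the property on a nonempty open of the fibre -/
theorem fib_restrict (P : MorphismProperty Scheme.{u}) [P.IsStableUnderBaseChange] {x : G.left}
    {W : G.left.Opens} (hx : x ∈ W) (h : P (W.ι ≫ u.left)) :
    ∃ W' : (fib G (G.hom x)).left.Opens, (W' : Set (fib G (G.hom x)).left).Nonempty ∧
      P (W'.ι ≫ (fibHom u (G.hom x)).left) := by
  obtain ⟨x', hx'⟩ := exists_fib_point G x
  let p := pullback.fst G.hom (S.fromSpecResidueField (G.hom x))
  exact ⟨p ⁻¹ᵁ W, ⟨x', show p x' ∈ W by rw [hx']; exact hx⟩, MorphismProperty.of_isPullback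
    ((isPullback_morphismRestrict p W).paste_vert (isPullback_fibHom u _)) h⟩

variable [GrpObj G] [GrpObj H] [IsMonHom u]

/-- a property holding near `x` holds on the whole fibre -/
theorem fib_of_nhd (P : MorphismProperty Scheme.{u}) [IsZariskiLocalAtSource P]
    [P.IsStableUnderBaseChange] [P.DescendsAlong (@Surjective ⊓ @Flat ⊓ @QuasiCompact)] {x : G.left}
    (hG : LocallyOfFiniteType (fib G (G.hom x)).hom) {W : G.left.Opens} (hx : x ∈ W)
    (h : P (W.ι ≫ u.left)) : P (fibHom u (G.hom x)).left := by
  obtain ⟨W', hW', h'⟩ := fib_restrict u P hx h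
  exact GrpLoc.of_restrict (fibHom u (G.hom x)) W' P hW' h'

omit [GrpObj H] [IsMonHom u] in
/-- a locus which is a union of fibres has open image -/
theorem isOpen_of_eq_preimage {L : Set G.left} {F : Set S} (hL : IsOpen L) (h : L = G.hom.base ⁻¹' F) :
    IsOpen F := by
  have : F = (η[G].left : S ⟶ G.left) ⁻¹' L := by
    ext s
    have hs : G.hom (η[G].left s) = s := by
      have h : η[G].left ≫ G.hom = 𝟙 S := Over.w η[G]
      rw [← Scheme.Hom.comp_apply, h]
      rfl
    rw [Set.mem_preimage, h, Set.mem_preimage]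
    exact Iff.of_eq (congrArg (· ∈ F) hs.symm)
  rw [this]
  exact hL.preimage (η[G].left : S ⟶ G.left).continuous

omit [GrpObj G] [GrpObj H] [IsMonHom u] in
theorem isOpen_nhdLocus (P : MorphismProperty Scheme.{u}) :
    IsOpen {x : G.left | ∃ W : G.left.Opens, x ∈ W ∧ P (W.ι ≫ u.left)} :=
  isOpen_iff_forall_mem_open.2 fun _ ⟨W, hW, h⟩ => ⟨W, fun _ hy => ⟨W, hy, h⟩, W.2, hW⟩

/-! ### quasi-finiteness -/

theorem lqf_locus [LocallyOfFiniteType u.left]
    (hG : ∀ s : S, LocallyOfFiniteType (fib G s).hom) :
    {x : G.left | ∃ W : G.left.Opens, x ∈ W ∧ LocallyQuasiFinite (W.ι ≫ u.left)} =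
      G.hom.base ⁻¹' {s : S | LocallyQuasiFinite (fibHom u s).left} := by
  ext x
  constructor
  · rintro ⟨W, hx, h⟩
    obtain ⟨W', hW', h'⟩ := fib_restrict u @LocallyQuasiFinite hx h
    have := hG (G.hom x)
    have : LocallyOfFiniteType (fibHom u (G.hom x)).left :=
      MorphismProperty.of_isPullback (isPullback_fibHom u _) ‹_›
    exact GrpLoc.locallyQuasiFinite_of_restrict (fibHom u (G.hom x)) W' hW' h'
  · intro h
    refine ⟨u.left.quasiFiniteLocus, ?_, inferInstance⟩
    show u.left.QuasiFiniteAt x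
    obtain ⟨x', hx'⟩ := exists_fib_point G x
    have : LocallyQuasiFinite (fibHom u (G.hom x)).left := h
    rw [Scheme.Hom.quasiFiniteAt_iff_isOpen_singleton_asFiber, ← (u.left.fiberHomeo _).isOpen_image]
    simp only [Set.image_singleton, Scheme.Hom.asFiber, Homeomorph.apply_symm_apply]
    have hd : _root_.IsDiscrete (u.left ⁻¹' {u.left x}) := by
      let q := pullback.fst H.hom (S.fromSpecResidueField (G.hom x))
      let p := pullback.fst G.hom (S.fromSpecResidueField (G.hom x))
      have hqp : ∀ z, q ((fibHom u (G.hom x)).left z) = u.left (p z) := fun z => by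
        show ((fibHom u (G.hom x)).left ≫ q) z = (p ≫ u.left) z
        rw [fibHom_fst]; rfl
      have hxq : q ((fibHom u (G.hom x)).left x') = u.left x := (hqp x').trans (congrArg u.left hx')
      have hsub : u.left ⁻¹' {u.left x} =
          p '' ((fibHom u (G.hom x)).left ⁻¹' {(fibHom u (G.hom x)).left x'}) := by
        ext a
        constructor
        · intro ha
          have hs : G.hom a = G.hom x := by
            rw [← Over.w u, Scheme.Hom.comp_apply, Scheme.Hom.comp_apply, show u.left a = u.left x from ha]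
          obtain ⟨a', rfl⟩ : a ∈ Set.range p := by
            rw [Scheme.Pullback.range_fst, Scheme.range_fromSpecResidueField]
            exact hs
          refine ⟨a', q.isEmbedding.injective ?_, rfl⟩
          exact (hqp a').trans (Eq.trans ha hxq.symm)
        · rintro ⟨a', ha', rfl⟩
          show u.left (p a') = u.left x
          exact (hqp a').symm.trans ((congrArg q ha').trans hxq)
      rw [hsub]
      exact ((fibHom u (G.hom x)).left.isDiscrete_preimage_singleton _).image p.isEmbedding.toIsInducing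
    have := isDiscrete_iff_discreteTopology.1 hd
    exact isOpen_discrete _

/-! ### unramified -/

theorem unramified_locus [LocallyOfFiniteType u.left]
    (hG : ∀ s : S, LocallyOfFiniteType (fib G s).hom) :
    {x : G.left | ∃ W : G.left.Opens, x ∈ W ∧ FormallyUnramified (W.ι ≫ u.left)} =
      G.hom.base ⁻¹' {s : S | FormallyUnramified (fibHom u s).left} := by
  ext x
  refine ⟨fun ⟨W, hx, h⟩ => fib_of_nhd u @FormallyUnramified (hG _) hx h, fun h => ?_⟩
  obtain ⟨x', hx'⟩ := exists_fib_point G x
  have : FormallyUnramified (fibHom u (G.hom x)).left := h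
  let sq := isPullback_fibHom u (G.hom x)
  obtain ⟨W, hW, hWu⟩ := UnramPt.exists_nhd_of_baseChange u.left
    (pullback.fst H.hom (S.fromSpecResidueField (G.hom x))) (sq.isoPullback.hom x') ⊤ trivial
    (by
      have h1 : FormallyUnramified (pullback.snd u.left (pullback.fst H.hom
          (S.fromSpecResidueField (G.hom x)))) := by
        rw [← sq.isoPullback_inv_snd, MorphismProperty.cancel_left_of_respectsIso @FormallyUnramified]
        exact this
      exact MorphismProperty.comp_mem _ _ _ inferInstance h1)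
  refine ⟨W, ?_, hWu⟩
  rwa [← Scheme.Hom.comp_apply, sq.isoPullback_hom_fst, hx'] at hW

/-! ### flatness and smoothness -/

omit [GrpObj G] [GrpObj H] [IsMonHom u] in
theorem lfp_left [LocallyOfFinitePresentation G.hom] [LocallyOfFiniteType H.hom] :
    LocallyOfFinitePresentation u.left := by
  have : LocallyOfFinitePresentation (u.left ≫ H.hom) := by rw [Over.w u]; infer_instance
  exact LimDesc.lfp_of_comp u.left H.hom

omit [GrpObj G] [GrpObj H] [IsMonHom u] in
theorem flatAt_of_fibHom [Flat G.hom] [LocallyOfFinitePresentation G.hom] [LocallyOfFiniteType H.hom]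
    {x : G.left} (h : Flat (fibHom u (G.hom x)).left) : (u.left.stalkMap x).hom.Flat := by
  have hlfp := lfp_left u
  have key : ∀ (g : G.left ⟶ S) (hg : u.left ≫ H.hom = g) (s : S) (_ : g x = s),
      LocallyOfFinitePresentation g → Flat g →
      (∀ (φ : pullback g (S.fromSpecResidueField s) ⟶ pullback H.hom (S.fromSpecResidueField s)),
        φ ≫ pullback.fst _ _ = pullback.fst _ _ ≫ u.left → φ ≫ pullback.snd _ _ = pullback.snd _ _ →
          Flat φ) → (u.left.stalkMap x).hom.Flat := by
    rintro g rfl s hs hlfp hflat hφ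
    obtain ⟨p, hp⟩ : x ∈ Set.range (pullback.fst (u.left ≫ H.hom) (S.fromSpecResidueField s)) := by
      rw [Scheme.Pullback.range_fst, Scheme.range_fromSpecResidueField]
      exact hs
    have := hφ (FibreFlat.fibMap u.left H.hom (S.fromSpecResidueField s))
      (pullback.lift_fst _ _ _) (pullback.lift_snd _ _ _)
    exact FibreFlat.flatAt_of_fibre u.left H.hom x hs p hp (Flat.stalkMap _ p)
  refine key G.hom (Over.w u) _ rfl inferInstance inferInstance fun φ h1 h2 => ?_
  have : φ = (fibHom u (G.hom x)).left := by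
    apply pullback.hom_ext
    · rw [h1, fibHom_fst]
    · rw [h2]; exact (Over.w (fibHom u (G.hom x))).symm
  rw [this]
  exact h

theorem flat_locus [Flat G.hom] [LocallyOfFinitePresentation G.hom] [LocallyOfFiniteType H.hom] :
    {x : G.left | (u.left.stalkMap x).hom.Flat} = G.hom.base ⁻¹' {s : S | Flat (fibHom u s).left} := by
  ext x
  refine ⟨fun h => ?_, fun h => flatAt_of_fibHom u h⟩
  have hlfp := lfp_left u
  let U := FibreFlat.flatOpen u.left
  obtain ⟨W', hW', h'⟩ := fib_restrict u @Flat (W := U) (show x ∈ U from h) (FibreFlat.flat_flatOpen _)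
  have : Flat (fib G (G.hom x)).hom :=
    inferInstanceAs (Flat (pullback.snd G.hom (S.fromSpecResidueField (G.hom x))))
  have : Subsingleton (Spec (CommRingCat.of (S.residueField (G.hom x)))) :=
    inferInstanceAs (Subsingleton (PrimeSpectrum _))
  exact flat_of_restrict (fibHom u (G.hom x)) W' hW' h'

theorem smooth_locus [Flat G.hom] [LocallyOfFinitePresentation G.hom] [LocallyOfFiniteType H.hom] :
    {x : G.left | ∃ W : G.left.Opens, x ∈ W ∧ Smooth (W.ι ≫ u.left)} =
      G.hom.base ⁻¹' {s : S | Smooth (fibHom u s).left} := by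
  ext x
  refine ⟨fun ⟨W, hx, h⟩ => fib_of_nhd u @Smooth ?_ hx h, fun h => ?_⟩
  · exact inferInstanceAs (LocallyOfFiniteType (pullback.snd G.hom (S.fromSpecResidueField (G.hom x))))
  have hlfp := lfp_left u
  have hsm : Smooth (fibHom u (G.hom x)).left := h
  let U := FibreFlat.flatOpen u.left
  have hxU : x ∈ U := flatAt_of_fibHom u inferInstance
  let f := U.ι ≫ u.left
  have : Flat f := FibreFlat.flat_flatOpen _
  obtain ⟨x', hx'⟩ := exists_fib_point G x
  let p := pullback.fst G.hom (S.fromSpecResidueField (G.hom x))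
  have sq := (isPullback_morphismRestrict p U).paste_vert (isPullback_fibHom u (G.hom x))
  have hmem : (⟨x, hxU⟩ : U) ∈ f.smoothLocus := by
    refine LimMore.mem_smoothLocus_of_smooth_fiber f _ ?_
    have h1 : Smooth ((p ⁻¹ᵁ U).ι ≫ (fibHom u (G.hom x)).left) := inferInstance
    have e : pullback.fst H.hom (S.fromSpecResidueField (G.hom x)) ((fibHom u (G.hom x)).left x') =
        f ⟨x, hxU⟩ := by
      refine Eq.trans (?_ : _ = u.left (p x')) (congrArg u.left hx')
      show ((fibHom u (G.hom x)).left ≫ pullback.fst H.hom _) x' = (p ≫ u.left) x'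
      rw [fibHom_fst]; rfl
    rw [← e]
    exact fibre_of_isPullback @Smooth sq _ (MorphismProperty.pullback_snd _ _ h1)
  refine ⟨U.ι ''ᵁ f.smoothLocus, ⟨_, hmem, rfl⟩, ?_⟩
  rw [← (U.ι.isoImage f.smoothLocus).inv_hom_id_assoc ((U.ι ''ᵁ f.smoothLocus).ι ≫ u.left),
    MorphismProperty.cancel_left_of_respectsIso @Smooth, Scheme.Hom.isoImage_hom_ι_assoc]
  have h2 : Smooth (f.smoothLocus.ι ≫ f) := by
    rw [← Scheme.Hom.smoothLocus_eq_top_iff, ← Scheme.Hom.preimage_smoothLocus_eq f.smoothLocus.ι f,
      Scheme.Opens.ι_preimage_self]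
  exact h2

theorem etale_locus [Flat G.hom] [LocallyOfFinitePresentation G.hom] [LocallyOfFiniteType H.hom] :
    {x : G.left | ∃ W : G.left.Opens, x ∈ W ∧ Etale (W.ι ≫ u.left)} =
      G.hom.base ⁻¹' {s : S | Etale (fibHom u s).left} := by
  have hlft : ∀ s : S, LocallyOfFiniteType (fib G s).hom := fun s =>
    inferInstanceAs (LocallyOfFiniteType (pullback.snd G.hom (S.fromSpecResidueField s)))
  ext x
  refine ⟨fun ⟨W, hx, h⟩ => fib_of_nhd u @Etale (hlft _) hx h, fun h => ?_⟩
  have hlfp := lfp_left u
  have : Etale (fibHom u (G.hom x)).left := h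
  obtain ⟨W₁, hx₁, h₁⟩ := (Set.ext_iff.1 (smooth_locus u) x).2
    (show Smooth (fibHom u (G.hom x)).left from inferInstance)
  obtain ⟨W₂, hx₂, h₂⟩ := (Set.ext_iff.1 (unramified_locus u hlft) x).2
    (show FormallyUnramified (fibHom u (G.hom x)).left from inferInstance)
  refine ⟨W₁ ⊓ W₂, ⟨hx₁, hx₂⟩, ?_⟩
  have : Smooth ((W₁ ⊓ W₂).ι ≫ u.left) := by
    rw [← G.left.homOfLE_ι (inf_le_left : W₁ ⊓ W₂ ≤ W₁), Category.assoc]
    exact IsZariskiLocalAtSource.comp h₁ _
  have : FormallyUnramified ((W₁ ⊓ W₂).ι ≫ u.left) := by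
    rw [← G.left.homOfLE_ι (inf_le_right : W₁ ⊓ W₂ ≤ W₂), Category.assoc]
    exact IsZariskiLocalAtSource.comp h₂ _
  exact Etale.iff_flat_and_formallyUnramified.2 ⟨inferInstance, inferInstance, inferInstance⟩

omit [GrpObj G] [GrpObj H] [IsMonHom u] in
/-- open immersions -/
theorem openImmersion_locus [UniversallyInjective u.left] [Flat G.hom]
    [LocallyOfFinitePresentation G.hom] [LocallyOfFiniteType H.hom] :
    {s : S | IsOpenImmersion (fibHom u s).left} = {s : S | Etale (fibHom u s).left} := by
  ext s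
  refine ⟨fun h => ?_, fun h => ?_⟩
  · have : IsOpenImmersion (fibHom u s).left := h
    exact (inferInstance : Etale (fibHom u s).left)
  · have : Etale (fibHom u s).left := h
    have : UniversallyInjective (fibHom u s).left :=
      MorphismProperty.of_isPullback (isPullback_fibHom u s) ‹_›
    exact EtaleSections.isOpenImmersion_of_etale_universallyInjective _

theorem isOpenImmersion_over [UniversallyInjective u.left] [Flat G.hom]
    [LocallyOfFinitePresentation G.hom] [LocallyOfFiniteType H.hom] (W : S.Opens)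
    (hW : ∀ s ∈ W, Etale (fibHom u s).left) : IsOpenImmersion ((G.hom ⁻¹ᵁ W).ι ≫ u.left) := by
  have : Etale ((G.hom ⁻¹ᵁ W).ι ≫ u.left) := by
    choose V hxV hV using fun a : ↑(G.hom ⁻¹ᵁ W) =>
      (Set.ext_iff.1 (etale_locus u) a.1).2 (hW _ a.2)
    refine IsZariskiLocalAtSource.of_iSup_eq_top (fun a => (G.hom ⁻¹ᵁ W).ι ⁻¹ᵁ V a)
      (top_le_iff.1 fun a _ => TopologicalSpace.Opens.mem_iSup.2 ⟨a, hxV a⟩) fun a => ?_
    rw [← Category.assoc, ← morphismRestrict_ι, Category.assoc]
    exact IsZariskiLocalAtSource.comp (hV a) _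
  have : UniversallyInjective ((G.hom ⁻¹ᵁ W).ι ≫ u.left) :=
    MorphismProperty.comp_mem @UniversallyInjective _ _ inferInstance ‹_›
  exact EtaleSections.isOpenImmersion_of_etale_universallyInjective _

end Groth.Agent.GrpLoc
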