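import Groth.Agent.GrpLoc.FieldDescentFT
import Groth.Agent.GrpField.Translate
import Mathlib.AlgebraicGeometry.Morphisms.FiniteType
import Mathlib.AlgebraicGeometry.AffineScheme

/-!
# A group scheme over a field which is locally of finite type somewhere is so everywhere
-/

universe u

open CategoryTheory CategoryTheory.Limits MonoidalCategory CartesianMonoidalCategory MonObj AlgebraicGeometry
open TensorProduct

set_option backward.isDefEq.respectTransparency false

namespace Groth.Agent.GrpLoc

open Groth.Agent.GrpField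

theorem exists_nhd_of_openPiece {k K : Type u} [Field k] [Field K] [Algebra k K] {X : Scheme.{u}}
    (h : X ⟶ Spec (CommRingCat.of k))
    (O : (pullback h (Spec.map (CommRingCat.ofHom (algebraMap k K)))).Opens)
    (hO : LocallyOfFiniteType (O.ι ≫ pullback.snd _ _))
    (z : ↥(pullback h (Spec.map (CommRingCat.ofHom (algebraMap k K))))) (hz : z ∈ O) :
    ∃ V : X.Opens, pullback.fst h (Spec.map (CommRingCat.ofHom (algebraMap k K))) z ∈ V ∧
      LocallyOfFiniteType (V.ι ≫ h) := by
  let σ := Spec.map (CommRingCat.ofHom (algebraMap k K))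
  obtain ⟨V, hV, hzV, -⟩ := exists_isAffineOpen_mem_and_subset (X := X) (x := pullback.fst h σ z)
    (U := ⊤) trivial
  obtain ⟨φ, hφ⟩ := Spec.map_surjective (hV.fromSpec ≫ h)
  let : Algebra k Γ(X, V) := φ.hom.toAlgebra
  have hφ' : Spec.map (CommRingCat.ofHom (algebraMap k Γ(X, V))) = hV.fromSpec ≫ h := hφ
  let m : pullback (Spec.map (CommRingCat.ofHom (algebraMap k Γ(X, V)))) σ ⟶ pullback h σ :=
    pullback.map _ _ _ _ hV.fromSpec (𝟙 _) (𝟙 _) (by rw [hφ']; simp) (by simp)
  have hm : IsOpenImmersion m :=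
    MorphismProperty.pullbackMap (P := @IsOpenImmersion) inferInstance inferInstance
      (by rw [hφ']) (by simp)
  let e := pullbackSpecIso k Γ(X, V) K
  let m' : Spec (CommRingCat.of (Γ(X, V) ⊗[k] K)) ⟶ pullback h σ := e.inv ≫ m
  have hmfst : m' ≫ pullback.fst h σ =
      Spec.map (CommRingCat.ofHom Algebra.TensorProduct.includeLeftRingHom) ≫ hV.fromSpec := by
    simp only [m', m, Category.assoc, pullback.lift_fst]
    rw [← Category.assoc, pullbackSpecIso_inv_fst]
  have hmsnd : m' ≫ pullback.snd h σ = Spec.map (CommRingCat.ofHom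
      (Algebra.TensorProduct.includeRight : K →ₐ[k] Γ(X, V) ⊗[k] K).toRingHom) := by
    simp only [m', m, Category.assoc, pullback.lift_snd, Category.comp_id]
    exact pullbackSpecIso_inv_snd ..
  obtain ⟨w, hw⟩ : z ∈ Set.range m' := by
    obtain ⟨a, ha⟩ : pullback.fst h σ z ∈ Set.range hV.fromSpec := hV.range_fromSpec.ge hzV
    have : z ∈ Set.range m := by
      rw [Scheme.Pullback.range_map]
      exact ⟨⟨a, ha⟩, ⟨_, rfl⟩⟩
    obtain ⟨v, rfl⟩ := this
    obtain ⟨w, rfl⟩ := e.inv.homeomorph.surjective v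
    exact ⟨w, rfl⟩
  obtain ⟨_, ⟨f, rfl⟩, hwf, hfO⟩ :=
    (PrimeSpectrum.isTopologicalBasis_basic_opens (R := Γ(X, V) ⊗[k] K)).exists_subset_of_mem_open
      (show w ∈ m' ⁻¹' (O : Set _) by rw [Set.mem_preimage, hw]; exact hz) (O.2.preimage m'.continuous)
  let L := Localization.Away f
  let j : Spec (CommRingCat.of L) ⟶ Spec (CommRingCat.of (Γ(X, V) ⊗[k] K)) :=
    Spec.map (CommRingCat.ofHom (algebraMap _ L))
  have : IsOpenImmersion j := inferInstance
  have hj : Set.range (j ≫ m') ⊆ Set.range O.ι := by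
    rintro _ ⟨l, rfl⟩
    rw [Scheme.Opens.range_ι]
    refine hfO ?_
    have := Set.mem_range_self (f := PrimeSpectrum.comap (algebraMap (Γ(X, V) ⊗[k] K) L)) l
    rw [PrimeSpectrum.localization_away_comap_range L f] at this
    exact this
  have hft : LocallyOfFiniteType ((j ≫ m') ≫ pullback.snd h σ) := by
    rw [← IsOpenImmersion.lift_fac O.ι (j ≫ m') hj, Category.assoc]
    exact MorphismProperty.comp_mem _ _ _ inferInstance hO
  rw [Category.assoc, hmsnd, ← Spec.map_comp, HasRingHomProperty.Spec_iff (P := @LocallyOfFiniteType)]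
    at hft
  obtain ⟨b, hb, hbft⟩ := exists_finiteType_away f L hft w hwf
  let jb : Spec (CommRingCat.of (Localization.Away b)) ⟶ X :=
    Spec.map (CommRingCat.ofHom (algebraMap Γ(X, V) (Localization.Away b))) ≫ hV.fromSpec
  have : IsOpenImmersion (Spec.map (CommRingCat.ofHom (algebraMap Γ(X, V) (Localization.Away b)))) :=
    inferInstanceAs (IsOpenImmersion (Spec.map (CommRingCat.ofHom (algebraMap Γ(X, V) (Localization.Away b)))))
  refine ⟨jb.opensRange, ?_, ?_⟩
  · rw [← hw, ← Scheme.Hom.comp_apply, hmfst, Scheme.Hom.comp_apply]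
    let P : PrimeSpectrum Γ(X, V) := PrimeSpectrum.comap
      (Algebra.TensorProduct.includeLeftRingHom : Γ(X, V) →+* Γ(X, V) ⊗[k] K) w
    obtain ⟨l, hl⟩ : P ∈ Set.range (PrimeSpectrum.comap (algebraMap Γ(X, V) (Localization.Away b))) := by
      rw [PrimeSpectrum.localization_away_comap_range (Localization.Away b) b]
      exact hb
    exact ⟨l, congrArg hV.fromSpec hl⟩
  · rw [← jb.isoOpensRange_inv_comp, Category.assoc,
      MorphismProperty.cancel_left_of_respectsIso @LocallyOfFiniteType]
    show LocallyOfFiniteType ((_ ≫ hV.fromSpec) ≫ h)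
    rw [Category.assoc, ← hφ, ← Spec.map_comp, HasRingHomProperty.Spec_iff (P := @LocallyOfFiniteType)]
    have he : (φ ≫ CommRingCat.ofHom (algebraMap Γ(X, V) (Localization.Away b))).hom =
        algebraMap k (Localization.Away b) := (IsScalarTower.algebraMap_eq k Γ(X, V) (Localization.Away b)).symm
    rw [he, RingHom.finiteType_algebraMap]
    exact hbft

/-- A group scheme over a field locally of finite type on a nonempty open is locally of finite type. -/
theorem locallyOfFiniteType_of_restrict {k : Type u} [Field k] (G : Over (Spec (CommRingCat.of k)))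
    [GrpObj G] (W : G.left.Opens) (hW : (W : Set G.left).Nonempty)
    (h : LocallyOfFiniteType (W.ι ≫ G.hom)) : LocallyOfFiniteType G.hom := by
  have : Subsingleton (Spec (CommRingCat.of k)) := inferInstanceAs (Subsingleton (PrimeSpectrum k))
  obtain ⟨w, hw⟩ := hW
  suffices ∀ g : G.left, ∃ V : G.left.Opens, g ∈ V ∧ LocallyOfFiniteType (V.ι ≫ G.hom) by
    choose V hg hV using this
    exact IsZariskiLocalAtSource.of_iSup_eq_top V
      (top_le_iff.1 fun g _ => TopologicalSpace.Opens.mem_iSup.2 ⟨g, hg g⟩) hV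
  intro g
  obtain ⟨z, hz1, hz2⟩ := Scheme.Pullback.exists_preimage_pullback (f := G.hom) (g := G.hom) w g
    (Subsingleton.elim _ _)
  let P := pullback G.hom G.hom
  let K := P.residueField z
  obtain ⟨φ, hφ⟩ := Spec.map_surjective (P.fromSpecResidueField z ≫ pullback.fst _ _ ≫ G.hom)
  let : Algebra k K := φ.hom.toAlgebra
  let σ := Spec.map (CommRingCat.ofHom (algebraMap k K))
  have hσ : σ = P.fromSpecResidueField z ≫ pullback.fst _ _ ≫ G.hom := hφ
  let T : Over (Spec (CommRingCat.of k)) := Over.mk σ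
  let a : T ⟶ G := Over.homMk (P.fromSpecResidueField z ≫ pullback.fst _ _)
    (by rw [Category.assoc]; exact hσ.symm)
  let b : T ⟶ G := Over.homMk (P.fromSpecResidueField z ≫ pullback.snd _ _)
    (by rw [Category.assoc, ← pullback.condition]; exact hσ.symm)
  obtain ⟨t⟩ : Nonempty T.left := inferInstanceAs (Nonempty (PrimeSpectrum K))
  let e := trR (G := G) (a⁻¹ * b)
  have : IsIso e.hom.left := ((Over.forget _).mapIso e).isIso_hom
  let W' : (pullback G.hom σ).Opens := pullback.fst G.hom σ ⁻¹ᵁ W
  let W'' : (G ⊗ T).left.Opens := W'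
  let j := W''.ι ≫ e.hom.left
  have hW'' : LocallyOfFiniteType (W'.ι ≫ pullback.snd G.hom σ) :=
    MorphismProperty.of_isPullback
      ((isPullback_morphismRestrict (pullback.fst G.hom σ) W).paste_vert (IsPullback.of_hasPullback G.hom σ)) h
  have hsnd : j ≫ (snd G T).left = W''.ι ≫ (snd G T).left := by
    simp only [j, Category.assoc, ← Over.comp_left]
    congr 2
    simp [e, trR]
  have hO : LocallyOfFiniteType (j.opensRange.ι ≫ (snd G T).left) := by
    rw [← j.isoOpensRange_inv_comp, Category.assoc,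
      MorphismProperty.cancel_left_of_respectsIso @LocallyOfFiniteType, hsnd]
    exact hW''
  let c : T.left ⟶ (G ⊗ T).left := (lift b (𝟙 T)).left
  have hc : c t ∈ j.opensRange := by
    have hfst : (fst G T).left ((lift a (𝟙 T)).left t) = w := by
      rw [← Scheme.Hom.comp_apply, ← Over.comp_left, lift_fst]
      show (P.fromSpecResidueField z ≫ pullback.fst _ _) t = w
      rw [Scheme.Hom.comp_apply, Scheme.fromSpecResidueField_apply]
      exact hz1
    refine ⟨⟨(lift a (𝟙 T)).left t, show (fst G T).left ((lift a (𝟙 T)).left t) ∈ W by rw [hfst]; exact hw⟩, ?_⟩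
    show e.hom.left ((lift a (𝟙 T)).left t) = c t
    rw [← Scheme.Hom.comp_apply, ← Over.comp_left,
      show lift a (𝟙 T) ≫ e.hom = lift b (𝟙 T) by simp [e, trR, MonObj.comp_mul]]
  obtain ⟨V, hcV, hV⟩ := exists_nhd_of_openPiece G.hom j.opensRange hO (c t) hc
  refine ⟨V, ?_, hV⟩
  have : (fst G T).left (c t) = g := by
    rw [← Scheme.Hom.comp_apply, ← Over.comp_left, lift_fst]
    show (P.fromSpecResidueField z ≫ pullback.snd _ _) t = g
    rw [Scheme.Hom.comp_apply, Scheme.fromSpecResidueField_apply]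
    exact hz2
  exact this ▸ hcV

end Groth.Agent.GrpLoc
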