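import Groth.Agent.GrpLoc.BaseChange
import Groth.Agent.GrpField.Dimension
import Mathlib.AlgebraicGeometry.Morphisms.LocalFlatDescent

/-!
# Local properties of homomorphisms of group schemes over a field hold everywhere
-/

universe u

open CategoryTheory CategoryTheory.Limits MonoidalCategory CartesianMonoidalCategory MonObj AlgebraicGeometry
open scoped CategoryTheory.Obj

namespace Groth.Agent.GrpLoc

open Groth.Agent.GrpField

variable {K : Type u} [Field K]

/-- Over an algebraically closed field, a property local on the source which a homomorphism has on a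
nonempty open holds everywhere. -/
theorem of_restrict_algClosed [IsAlgClosed K] (P : MorphismProperty Scheme.{u}) [IsZariskiLocalAtSource P]
    {G H : Over (Spec (CommRingCat.of K))} [GrpObj G] [GrpObj H]
    [LocallyOfFiniteType G.hom] (u : G ⟶ H) [IsMonHom u] (W : G.left.Opens)
    (hW : (W : Set G.left).Nonempty) (h : P (W.ι ≫ u.left)) : P u.left := by
  have : JacobsonSpace G.left := LocallyOfFiniteType.jacobsonSpace G.hom
  obtain ⟨z₀, hz₀W, hz₀⟩ := nonempty_inter_closedPoints hW W.2.isLocallyClosed
  let pt : ∀ x : G.left, IsClosed ({x} : Set G.left) → (𝟙_ (Over (Spec (CommRingCat.of K))) ⟶ G) :=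
    fun x hx => Over.homMk (pointOfClosedPoint G.hom x hx) (pointOfClosedPoint_comp G.hom x hx)
  let c : {z : G.left // IsClosed ({z} : Set G.left)} → (𝟙_ (Over (Spec (CommRingCat.of K))) ⟶ G) :=
    fun z => (pt z₀ hz₀)⁻¹ * pt z.1 z.2
  have heq : ∀ z, (transl (c z)).hom ≫ u = u ≫ (transl (c z ≫ u)).hom := fun z => by
    simp [transl, MonObj.mul_comp, MonObj.comp_mul, comp_toUnit_assoc]
  have hiso : ∀ {G' : Over (Spec (CommRingCat.of K))} (e : G' ≅ G'), IsIso e.hom.left := fun e =>
    ((Over.forget _).mapIso e).isIso_hom
  let U : {z : G.left // IsClosed ({z} : Set G.left)} → G.left.Opens := fun z =>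
    have := hiso (transl (c z))
    (W.ι ≫ (transl (c z)).hom.left).opensRange
  refine IsZariskiLocalAtSource.of_iSup_eq_top U ?_ fun z => ?_
  · rw [eq_top_iff]
    by_contra hne
    obtain ⟨x, -, hx⟩ := Set.not_subset.1 hne
    obtain ⟨z, hzU, hz⟩ := nonempty_inter_closedPoints
      (Z := ((iSup U : G.left.Opens) : Set G.left)ᶜ) ⟨x, hx⟩ (iSup U).2.isClosed_compl.isLocallyClosed
    refine hzU (TopologicalSpace.Opens.mem_iSup.2 ⟨⟨z, hz⟩, ⟨z₀, hz₀W⟩, ?_⟩)
    obtain ⟨t⟩ : Nonempty (𝟙_ (Over (Spec (CommRingCat.of K)))).left :=
      inferInstanceAs (Nonempty (PrimeSpectrum K))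
    have h1 : pt z₀ hz₀ ≫ (transl (c ⟨z, hz⟩)).hom = pt z hz := by simp [transl, c, MonObj.comp_mul]
    have h2 := congrArg (fun k => k.left t) h1
    simp only [Over.comp_left, Scheme.Hom.comp_apply] at h2
    change (transl (c ⟨z, hz⟩)).hom.left z₀ = z
    rwa [show (pt z₀ hz₀).left t = z₀ from pointOfClosedPoint_apply G.hom z₀ hz₀ t,
      show (pt z hz).left t = z from pointOfClosedPoint_apply G.hom z hz t] at h2
  · have := hiso (transl (c z))
    have := hiso (transl (c z ≫ u))
    let j := W.ι ≫ (transl (c z)).hom.left
    have hj : P (j ≫ u.left) := by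
      rw [show j ≫ u.left = (W.ι ≫ u.left) ≫ (transl (c z ≫ u)).hom.left by
        simp only [j, Category.assoc, ← Over.comp_left, heq z]]
      rwa [P.cancel_right_of_respectsIso]
    show P (j.opensRange.ι ≫ u.left)
    rwa [← j.isoOpensRange_inv_comp, Category.assoc, P.cancel_left_of_respectsIso]

attribute [local instance] Over.grpObjMkPullbackSnd

variable (K) in
/-- base change to the algebraic closure -/
noncomputable abbrev toClosure : Spec (CommRingCat.of (AlgebraicClosure K)) ⟶ Spec (CommRingCat.of K) :=
  Spec.map (CommRingCat.ofHom (algebraMap K (AlgebraicClosure K)))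

instance : Surjective (toClosure K) :=
  (inferInstance : PointBase (Spec (CommRingCat.of K))).surj (AlgebraicClosure K) _

instance : Flat (toClosure K) :=
  Flat.SpecMap_iff.2 (RingHom.Flat.of_isField (Field.toIsField K) _)

variable {G H : Over (Spec (CommRingCat.of K))} [GrpObj G] [GrpObj H] [LocallyOfFiniteType G.hom]
  (u : G ⟶ H) [IsMonHom u] (W : G.left.Opens)

/-- A property stable under base change and local on the source holds on the base change to the
algebraic closure, if it holds on a nonempty open. -/
theorem bc_of_restrict (P : MorphismProperty Scheme.{u}) [IsZariskiLocalAtSource P]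
    [P.IsStableUnderBaseChange] (hW : (W : Set G.left).Nonempty)
    (h : P (W.ι ≫ u.left)) : P ((Over.pullback (toClosure K)).map u).left := by
  let p := pullback.fst G.hom (toClosure K)
  have : LocallyOfFiniteType ((Over.pullback (toClosure K)).obj G).hom :=
    inferInstanceAs (LocallyOfFiniteType (pullback.snd G.hom (toClosure K)))
  have : Surjective p := MorphismProperty.pullback_fst _ _ inferInstance
  refine of_restrict_algClosed P ((Over.pullback (toClosure K)).map u) (p ⁻¹ᵁ W)
    (hW.preimage p.surjective) ?_
  exact MorphismProperty.of_isPullback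
    ((isPullback_morphismRestrict p W).paste_vert (isPullback_bc (toClosure K) u)) h

/-- A property local on the source and descending along fpqc morphisms which a homomorphism of group
schemes over a field has on a nonempty open holds everywhere. -/
theorem of_restrict (P : MorphismProperty Scheme.{u}) [IsZariskiLocalAtSource P]
    [P.IsStableUnderBaseChange] [P.DescendsAlong (@Surjective ⊓ @Flat ⊓ @QuasiCompact)]
    (hW : (W : Set G.left).Nonempty) (h : P (W.ι ≫ u.left)) : P u.left := by
  refine MorphismProperty.of_isPullback_of_descendsAlong (Q := @Surjective ⊓ @Flat ⊓ @QuasiCompact)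
    (isPullback_bc (toClosure K) u).flip ⟨⟨?_, ?_⟩, ?_⟩ (bc_of_restrict u W P hW h)
  all_goals exact MorphismProperty.pullback_fst _ _ inferInstance

/-- The same for quasi-finiteness. -/
theorem locallyQuasiFinite_of_restrict [LocallyOfFiniteType u.left]
    (hW : (W : Set G.left).Nonempty) (h : LocallyQuasiFinite (W.ι ≫ u.left)) :
    LocallyQuasiFinite u.left := by
  have : LocallyQuasiFinite ((Over.pullback (toClosure K)).map u).left :=
    bc_of_restrict u W @LocallyQuasiFinite hW h
  have : Surjective (pullback.fst H.hom (toClosure K)) := MorphismProperty.pullback_fst _ _ inferInstance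
  exact locallyQuasiFinite_of_isPullback (isPullback_bc (toClosure K) u)

end Groth.Agent.GrpLoc
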