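import Mathlib.RingTheory.Spectrum.Prime.Chevalley
import Mathlib.RingTheory.FiniteType
import Mathlib.RingTheory.Localization.Away.Basic
import Mathlib.RingTheory.Flat.Basic
import Mathlib.RingTheory.TensorProduct.Maps
import Mathlib.LinearAlgebra.TensorProduct.RightExactness
import Mathlib.RingTheory.Adjoin.FG
import Mathlib.RingTheory.Localization.InvSubmonoid

/-!
# Finite type near a point descends along field extensions
-/

universe u

open TensorProduct PrimeSpectrum

set_option linter.style.haveILetI false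

namespace Groth.Agent.GrpLoc

variable {k K B : Type u} [Field k] [CommRing K] [Algebra k K] [CommRing B] [Algebra k B]

theorem range_map_mono {C D : Subalgebra k B} (h : C ≤ D) :
    (Algebra.TensorProduct.map C.val (AlgHom.id k K)).range ≤
      (Algebra.TensorProduct.map D.val (AlgHom.id k K)).range := by
  rintro _ ⟨u, rfl⟩
  refine ⟨Algebra.TensorProduct.map (Subalgebra.inclusion h) (AlgHom.id k K) u, ?_⟩
  exact congrArg (fun φ : C ⊗[k] K →ₐ[k] B ⊗[k] K => φ u)
    (show (Algebra.TensorProduct.map D.val (AlgHom.id k K)).comp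
      (Algebra.TensorProduct.map (Subalgebra.inclusion h) (AlgHom.id k K)) =
        Algebra.TensorProduct.map C.val (AlgHom.id k K) by
      apply Algebra.TensorProduct.ext <;> ext <;> rfl)

theorem exists_fg_mem_range (x : B ⊗[k] K) :
    ∃ C : Subalgebra k B, C.FG ∧ x ∈ (Algebra.TensorProduct.map C.val (AlgHom.id k K)).range := by
  induction x using TensorProduct.induction_on with
  | zero => exact ⟨⊥, Subalgebra.fg_bot, zero_mem _⟩
  | tmul b a =>
    exact ⟨Algebra.adjoin k {b}, by simpa using Subalgebra.fg_adjoin_finset {b},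
      ⟨⟨b, Algebra.self_mem_adjoin_singleton k b⟩ ⊗ₜ a, rfl⟩⟩
  | add x y hx hy =>
    obtain ⟨C, hC, u, rfl⟩ := hx
    obtain ⟨D, hD, v, rfl⟩ := hy
    refine ⟨C ⊔ D, hC.sup hD, add_mem ?_ ?_⟩
    · exact range_map_mono le_sup_left ⟨u, rfl⟩
    · exact range_map_mono le_sup_right ⟨v, rfl⟩

/-- If `(B ⊗ K)_f` is of finite type over `K`, then `B` is of finite type over `k` near the image
of a point where `f` is invertible. -/
theorem exists_finiteType_away (f : B ⊗[k] K) (L : Type u) [CommRing L] [Algebra (B ⊗[k] K) L]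
    [IsLocalization.Away f L]
    (hft : ((algebraMap (B ⊗[k] K) L).comp
      (Algebra.TensorProduct.includeRight : K →ₐ[k] B ⊗[k] K).toRingHom).FiniteType)
    (P : PrimeSpectrum (B ⊗[k] K)) (hP : f ∉ P.asIdeal) :
    ∃ b : B, b ∉ P.asIdeal.comap (Algebra.TensorProduct.includeLeftRingHom : B →+* B ⊗[k] K) ∧
      Algebra.FiniteType k (Localization.Away b) := by
  classical
  letI algKL : Algebra K L := ((algebraMap (B ⊗[k] K) L).comp
    (Algebra.TensorProduct.includeRight : K →ₐ[k] B ⊗[k] K).toRingHom).toAlgebra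
  haveI : Algebra.FiniteType K L := hft
  obtain ⟨s, hs⟩ := (inferInstance : Algebra.FiniteType K L).out
  choose n a ha using fun x : L => IsLocalization.Away.surj f x
  choose C hCfg hCm using fun y : B ⊗[k] K => exists_fg_mem_range y
  let B₀ : Subalgebra k B := C f ⊔ s.sup fun x => C (a x)
  have hB₀ : B₀.FG := (hCfg f).sup
    (Finset.sup_induction Subalgebra.fg_bot (fun _ h1 _ h2 => h1.sup h2) fun x _ => hCfg (a x))
  let ι₀ := Algebra.TensorProduct.map B₀.val (AlgHom.id k K)
  obtain ⟨f₀, hf₀⟩ : f ∈ ι₀.range := range_map_mono le_sup_left (hCm f)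
  have ha₀ : ∀ x ∈ s, a x ∈ ι₀.range := fun x hx =>
    range_map_mono ((Finset.le_sup (f := fun x => C (a x)) hx).trans le_sup_right) (hCm (a x))
  have hgen : ∀ x : L, ∃ (m : ℕ) (y : B₀ ⊗[k] K),
      x * algebraMap _ L f ^ m = algebraMap _ L (ι₀ y) := by
    intro x
    have hx : x ∈ Algebra.adjoin K (s : Set L) := hs ▸ Algebra.mem_top
    induction hx using Algebra.adjoin_induction with
    | mem x hx =>
      obtain ⟨y, hy⟩ := ha₀ x hx
      exact ⟨n x, y, (ha x).trans (congrArg _ hy.symm)⟩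
    | algebraMap r =>
      refine ⟨0, (1 : B₀) ⊗ₜ r, ?_⟩
      rw [pow_zero, mul_one]
      rfl
    | add x y _ _ hx hy =>
      obtain ⟨m, u, hu⟩ := hx
      obtain ⟨m', v, hv⟩ := hy
      refine ⟨m + m', u * f₀ ^ m' + v * f₀ ^ m, ?_⟩
      simp only [map_add, map_mul, map_pow, show ι₀ f₀ = f from hf₀, ← hu, ← hv]
      ring
    | mul x y _ _ hx hy =>
      obtain ⟨m, u, hu⟩ := hx
      obtain ⟨m', v, hv⟩ := hy
      refine ⟨m + m', u * v, ?_⟩
      simp only [map_mul, ← hu, ← hv]
      ring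
  have hkey : ∀ b : B, ∃ (m : ℕ) (y : B₀ ⊗[k] K), f ^ m * (b ⊗ₜ[k] (1 : K)) = ι₀ y := by
    intro b
    obtain ⟨m, y, hy⟩ := hgen (algebraMap _ L (b ⊗ₜ[k] (1 : K)))
    rw [← map_pow, ← map_mul, IsLocalization.eq_iff_exists (Submonoid.powers f)] at hy
    obtain ⟨⟨c, m', rfl⟩, hc⟩ := hy
    refine ⟨m + m', f₀ ^ m' * y, ?_⟩
    rw [map_mul, map_pow, show ι₀ f₀ = f from hf₀]
    rw [show f ^ (m + m') * (b ⊗ₜ[k] (1 : K)) = f ^ m' * ((b ⊗ₜ[k] (1 : K)) * f ^ m) by ring]
    exact hc
  -- a neighbourhood in the model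
  let p₀ : PrimeSpectrum B₀ :=
    PrimeSpectrum.comap (algebraMap B₀ (B₀ ⊗[k] K)) (PrimeSpectrum.comap ι₀.toRingHom P)
  let U := PrimeSpectrum.comap (algebraMap B₀ (B₀ ⊗[k] K)) '' (basicOpen f₀ : Set (PrimeSpectrum (B₀ ⊗[k] K)))
  have hU : IsOpen U := isOpenMap_comap_algebraMap_tensorProduct_of_field _ (basicOpen f₀).isOpen
  have hp₀ : p₀ ∈ U := ⟨_, show f₀ ∉ (PrimeSpectrum.comap ι₀.toRingHom P).asIdeal by
    show ι₀ f₀ ∉ P.asIdeal
    rwa [show ι₀ f₀ = f from hf₀], rfl⟩
  obtain ⟨_, ⟨b₀, rfl⟩, hb₀, hbU⟩ :=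
    (isTopologicalBasis_basic_opens (R := B₀)).exists_subset_of_mem_open hp₀ hU
  refine ⟨(b₀ : B), hb₀, ?_⟩
  have hdesc : ∀ b : B, ∃ m : ℕ, (b₀ : B) ^ m * b ∈ B₀ := by
    intro b
    let I : Ideal B₀ :=
      { carrier := {c | (c : B) * b ∈ B₀}
        add_mem' := fun h h' => by
          simp only [Set.mem_ofPred_eq, AddMemClass.coe_add, add_mul]; exact add_mem h h'
        zero_mem' := by simp
        smul_mem' := fun c x h => by
          simp only [Set.mem_ofPred_eq, smul_eq_mul, MulMemClass.coe_mul, mul_assoc]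
          exact mul_mem c.2 h }
    suffices h : b₀ ∈ I.radical by
      obtain ⟨m, hm⟩ := h
      exact ⟨m, by simpa using (show ((b₀ ^ m : B₀) : B) * b ∈ B₀ from hm)⟩
    obtain ⟨m, y, hy⟩ := hkey b
    let φ : B₀ →ₗ[k] B ⧸ Subalgebra.toSubmodule B₀ :=
      (Subalgebra.toSubmodule B₀).mkQ ∘ₗ (LinearMap.mulRight k b) ∘ₗ B₀.val.toLinearMap
    let j : I.restrictScalars k →ₗ[k] B₀ := (I.restrictScalars k).subtype
    have hex : Function.Exact j φ := by
      intro c
      constructor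
      · intro hc
        exact ⟨⟨c, show (c : B) * b ∈ B₀ from
          (Submodule.Quotient.mk_eq_zero (Subalgebra.toSubmodule B₀)).1 hc⟩, rfl⟩
      · rintro ⟨c, rfl⟩
        exact (Submodule.Quotient.mk_eq_zero _).2 c.2
    have hzero : LinearMap.rTensor K φ (f₀ ^ m) = 0 := by
      have hφ : LinearMap.rTensor K φ (f₀ ^ m) = LinearMap.rTensor K
          (Subalgebra.toSubmodule B₀).mkQ (ι₀ (f₀ ^ m) * (b ⊗ₜ[k] (1 : K))) := by
        generalize f₀ ^ m = z
        induction z using TensorProduct.induction_on with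
        | zero => simp
        | tmul c r => simp [φ, ι₀, Algebra.TensorProduct.tmul_mul_tmul]
        | add x y hx hy => simp only [map_add, add_mul, hx, hy]
      rw [hφ, map_pow, show ι₀ f₀ = f from hf₀, hy]
      clear hy
      induction y using TensorProduct.induction_on with
      | zero => simp
      | tmul c r =>
        show (Subalgebra.toSubmodule B₀).mkQ (c : B) ⊗ₜ[k] r = 0
        rw [Submodule.mkQ_apply, (Submodule.Quotient.mk_eq_zero _).2 c.2, zero_tmul]
      | add x y hx hy => simp only [map_add, hx, hy, add_zero]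
    obtain ⟨z, hz⟩ := (Module.Flat.rTensor_exact K hex _).1 hzero
    rw [Ideal.radical_eq_sInf, Submodule.mem_sInf]
    rintro q ⟨hIq, hq⟩
    by_contra hbq
    obtain ⟨Q, hQf, hQq⟩ := hbU (show (⟨q, hq⟩ : PrimeSpectrum B₀) ∈ basicOpen b₀ from hbq)
    have hmem : f₀ ^ m ∈ Q.asIdeal := by
      rw [← hz]
      clear hz
      induction z using TensorProduct.induction_on with
      | zero => simp
      | tmul c r =>
        show j c ⊗ₜ[k] r ∈ Q.asIdeal
        rw [show j c ⊗ₜ[k] r = algebraMap B₀ (B₀ ⊗[k] K) (j c) * ((1 : B₀) ⊗ₜ r) by simp]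
        refine Ideal.mul_mem_right _ _ ?_
        show j c ∈ (PrimeSpectrum.comap (algebraMap B₀ (B₀ ⊗[k] K)) Q).asIdeal
        rw [hQq]
        exact hIq c.2
      | add x y hx hy => simp only [map_add]; exact add_mem hx hy
    exact hQf (Q.2.mem_of_pow_mem _ hmem)
  have : Algebra.FiniteType k B₀ := (Subalgebra.fg_iff_finiteType _).1 hB₀
  let ψ : Localization.Away b₀ →ₐ[k] Localization.Away (b₀ : B) :=
    IsLocalization.liftAlgHom (M := Submonoid.powers b₀)
      (f := (IsScalarTower.toAlgHom k B (Localization.Away (b₀ : B))).comp B₀.val)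
      (fun ⟨_, e, he⟩ => by
        subst he
        simpa using (IsLocalization.Away.algebraMap_isUnit (S := Localization.Away (b₀ : B)) (b₀ : B)).pow e)
  have : Algebra.FiniteType k (Localization.Away b₀) :=
    Algebra.FiniteType.trans ‹_› (IsLocalization.finiteType_of_monoid_fg (Submonoid.powers b₀) _)
  refine Algebra.FiniteType.of_surjective ψ fun x => ?_
  obtain ⟨e, c, hc⟩ := IsLocalization.Away.surj (b₀ : B) x
  obtain ⟨m, hm⟩ := hdesc c
  refine ⟨IsLocalization.mk' _ (⟨_, hm⟩ : B₀) (⟨b₀ ^ (e + m), e + m, rfl⟩ : Submonoid.powers b₀), ?_⟩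
  rw [IsLocalization.liftAlgHom_apply, IsLocalization.lift_mk'_spec]
  show algebraMap B _ ((b₀ : B) ^ m * c) = algebraMap B _ ((b₀ : B) ^ (e + m)) * x
  rw [map_mul, ← hc, map_pow, map_pow, pow_add]
  ring

end Groth.Agent.GrpLoc
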