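import Groth.Agent.GrpLoc.Field
import Groth.Agent.GrpField.FlatPoint
import Groth.Agent.FppfSource.Scheme
import Groth.Agent.FibCrit.Props
import Mathlib.AlgebraicGeometry.Morphisms.SmoothFiber

/-!
# Local properties of homomorphisms of group schemes over an artinian base hold everywhere
-/

universe u

open CategoryTheory CategoryTheory.Limits MonoidalCategory CartesianMonoidalCategory MonObj AlgebraicGeometry
open scoped CategoryTheory.Obj

set_option backward.isDefEq.respectTransparency false

namespace Groth.Agent.GrpLoc

open Groth.Agent.GrpField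

/-- A homomorphism from a flat lfp group scheme over a one-point base which is locally of finite
presentation on a nonempty open is locally of finite presentation. -/
theorem lfp_of_restrict {S : Scheme.{u}} [PointBase S] [Subsingleton S] {G H : Over S} [GrpObj G]
    [GrpObj H] [Flat G.hom] [LocallyOfFinitePresentation G.hom] (u : G ⟶ H) [IsMonHom u]
    (W : G.left.Opens) (hW : (W : Set G.left).Nonempty)
    (h : LocallyOfFinitePresentation (W.ι ≫ u.left)) : LocallyOfFinitePresentation u.left := by
  let V : Over S := Over.mk (W.ι ≫ G.hom)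
  let j : V ⟶ G := Over.homMk W.ι
  have hw : ∀ (P : MorphismProperty Scheme.{u}) [P.IsStableUnderBaseChange] [P.IsStableUnderComposition]
      {K : Over S} (k : V ⟶ K),
      P (𝟙 G.left) → P k.left → P (lift (fst V G ≫ k) (snd V G)).left := by
    intro P _ _ K k hid hk
    have h1 : (lift (fst V G ≫ k) (snd V G)).left = pullback.map V.hom G.hom K.hom G.hom k.left (𝟙 _)
        (𝟙 _) (by simp) (by simp) := by
      apply pullback.hom_ext
      · rw [pullback.lift_fst]
        exact congrArg (fun z => z.left) (lift_fst (fst V G ≫ k) (snd V G))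
      · rw [pullback.lift_snd, Category.comp_id]
        exact congrArg (fun z => z.left) (lift_snd (fst V G ≫ k) (snd V G))
    rw [h1]
    exact MorphismProperty.pullbackMap (P := P) hk hid (by simp) (by simp)
  have e : ∀ {K : Over S} [GrpObj K] (k : V ⟶ K) (l : G ⟶ K), ((fst V G ≫ k) * (snd V G ≫ l)).left =
      (lift (fst V G ≫ k) (snd V G)).left ≫ (trR l).hom.left ≫ (fst K G).left := by
    intro K _ k l
    rw [← Over.comp_left, ← Over.comp_left]
    congr 1
    simp [trR, MonObj.comp_mul]
  have hiso : ∀ {K : Over S} (f : K ≅ K), IsIso f.hom.left := fun f =>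
    ((Over.forget S).mapIso f).isIso_hom
  let Φ : V ⊗ G ⟶ G := (fst V G ≫ j) * (snd V G ≫ 𝟙 G)
  have hΦ : (@Flat ⊓ @LocallyOfFinitePresentation : MorphismProperty Scheme.{u}) Φ.left := by
    rw [e]
    have := hiso (trR (𝟙 G))
    have := hw @IsOpenImmersion j inferInstance (inferInstanceAs (IsOpenImmersion W.ι))
    have : Flat (fst G G).left := MorphismProperty.pullback_fst G.hom G.hom ‹_›
    have : LocallyOfFinitePresentation (fst G G).left :=
      MorphismProperty.pullback_fst G.hom G.hom ‹_›
    exact ⟨inferInstance, inferInstance⟩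
  have : LocallyOfFinitePresentation (Φ.left ≫ u.left) := by
    rw [← Over.comp_left, show Φ ≫ u = (fst V G ≫ j ≫ u) * (snd V G ≫ u) by simp [Φ, MonObj.mul_comp], e]
    have := hiso (trR u)
    have := hw @LocallyOfFinitePresentation (j ≫ u) inferInstance h
    have : LocallyOfFinitePresentation (fst H G).left :=
      MorphismProperty.pullback_fst H.hom G.hom ‹_›
    infer_instance
  have : Surjective Φ.left := ⟨fun g => by
    obtain ⟨w, hw⟩ := hW
    obtain ⟨T, _, a, b, ha, hb⟩ := exists_pt₂ (X := V) (Y := G) (⟨w, hw⟩ : W) g
    obtain ⟨t⟩ := IsPt.nonempty T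
    refine ⟨(lift a ((a ≫ j)⁻¹ * b)).left t, ?_⟩
    rw [← Scheme.Hom.comp_apply, ← Over.comp_left,
      show lift a ((a ≫ j)⁻¹ * b) ≫ Φ = b by simp [Φ, MonObj.comp_mul], hb]⟩
  have := hΦ.1
  have := hΦ.2
  exact FppfSource.lfp Φ.left u.left

/-- Flatness spreads from a nonempty open. -/
theorem flat_of_restrict {S : Scheme.{u}} [PointBase S] [Subsingleton S] {G H : Over S} [GrpObj G]
    [GrpObj H] [Flat G.hom] (u : G ⟶ H) [IsMonHom u]
    (W : G.left.Opens) (hW : (W : Set G.left).Nonempty) (h : Flat (W.ι ≫ u.left)) : Flat u.left := by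
  obtain ⟨w, hw⟩ := hW
  have h1 : ((W.ι ≫ u.left).stalkMap (⟨w, hw⟩ : W)).hom.Flat := Flat.stalkMap _ _
  rw [Scheme.Hom.stalkMap_comp] at h1
  have := (RingHom.Flat.respectsIso.cancel_right_isIso (u.left.stalkMap (W.ι ⟨w, hw⟩))
    (W.ι.stalkMap ⟨w, hw⟩)).1 h1
  exact flat_of_flat_stalkMap u this

variable {A : Type u} [CommRing A] [IsArtinianRing A] [IsLocalRing A]

variable (A) in
/-- the closed point -/
noncomputable abbrev toRes : Spec (CommRingCat.of (IsLocalRing.ResidueField A)) ⟶ Spec (CommRingCat.of A) :=
  Spec.map (CommRingCat.ofHom (IsLocalRing.residue A))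

instance : Surjective (toRes A) :=
  (pointBase_of_isArtinianRing A).surj (IsLocalRing.ResidueField A) _

variable {G H : Over (Spec (CommRingCat.of A))} [GrpObj G] [GrpObj H] [LocallyOfFiniteType G.hom]
  (u : G ⟶ H) [IsMonHom u] (W : G.left.Opens)

omit [GrpObj G] [GrpObj H] [IsMonHom u] [IsArtinianRing A] [IsLocalRing A] in
theorem locallyOfFiniteType_left : LocallyOfFiniteType u.left := by
  have : LocallyOfFiniteType (u.left ≫ H.hom) := by rw [Over.w u]; infer_instance
  exact locallyOfFiniteType_of_comp u.left H.hom

omit [GrpObj G] [GrpObj H] [LocallyOfFiniteType G.hom] [IsMonHom u] in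
/-- restriction of the hypothesis to the special fibre -/
theorem res_restrict (P : MorphismProperty Scheme.{u}) [P.IsStableUnderBaseChange]
    (hW : (W : Set G.left).Nonempty) (h : P (W.ι ≫ u.left)) :
    ∃ W' : ((Over.pullback (toRes A)).obj G).left.Opens,
      (W' : Set ((Over.pullback (toRes A)).obj G).left).Nonempty ∧
      P (W'.ι ≫ ((Over.pullback (toRes A)).map u).left) := by
  let p := pullback.fst G.hom (toRes A)
  have : Surjective p := MorphismProperty.pullback_fst _ _ inferInstance
  exact ⟨p ⁻¹ᵁ W, hW.preimage p.surjective, MorphismProperty.of_isPullback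
    ((isPullback_morphismRestrict p W).paste_vert (isPullback_bc (toRes A) u)) h⟩

/-- The fibres of a homomorphism have a local property which holds on a nonempty open. -/
theorem fibres_of_restrict (P : MorphismProperty Scheme.{u}) [IsZariskiLocalAtSource P]
    [P.IsStableUnderBaseChange] [P.DescendsAlong (@Surjective ⊓ @Flat ⊓ @QuasiCompact)]
    (hW : (W : Set G.left).Nonempty) (h : P (W.ι ≫ u.left)) (y : H.left) :
    P (u.left.fiberToSpecResidueField y) := by
  have : LocallyOfFiniteType ((Over.pullback (toRes A)).obj G).hom :=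
    inferInstanceAs (LocallyOfFiniteType (pullback.snd G.hom (toRes A)))
  obtain ⟨W', hW', h'⟩ := res_restrict u W P hW h
  have h1 := GrpLoc.of_restrict ((Over.pullback (toRes A)).map u) W' P hW' h'
  have : Surjective (pullback.fst H.hom (toRes A)) := MorphismProperty.pullback_fst _ _ inferInstance
  exact fibres_of_isPullback P (isPullback_bc (toRes A) u)
    (fun y' => MorphismProperty.pullback_snd _ _ h1) y

theorem formallyUnramified_of_restrict (hW : (W : Set G.left).Nonempty)
    (h : FormallyUnramified (W.ι ≫ u.left)) : FormallyUnramified u.left := by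
  have := locallyOfFiniteType_left u
  exact FibCrit.formallyUnramified_of_fiberToSpecResidueField u.left
    (fibres_of_restrict u W @FormallyUnramified hW h)

theorem locallyQuasiFinite_of_restrict_artinian (hW : (W : Set G.left).Nonempty)
    (h : LocallyQuasiFinite (W.ι ≫ u.left)) : LocallyQuasiFinite u.left := by
  have := locallyOfFiniteType_left u
  have : LocallyOfFiniteType ((Over.pullback (toRes A)).obj G).hom :=
    inferInstanceAs (LocallyOfFiniteType (pullback.snd G.hom (toRes A)))
  have : LocallyOfFiniteType ((Over.pullback (toRes A)).map u).left :=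
    MorphismProperty.of_isPullback (isPullback_bc (toRes A) u) ‹_›
  obtain ⟨W', hW', h'⟩ := res_restrict u W @LocallyQuasiFinite hW h
  have : LocallyQuasiFinite ((Over.pullback (toRes A)).map u).left :=
    GrpLoc.locallyQuasiFinite_of_restrict _ W' hW' h'
  have : Surjective (pullback.fst H.hom (toRes A)) := MorphismProperty.pullback_fst _ _ inferInstance
  exact locallyQuasiFinite_of_isPullback (isPullback_bc (toRes A) u)

theorem lfp_of_restrict_artinian [Flat G.hom] (hW : (W : Set G.left).Nonempty)
    (h : LocallyOfFinitePresentation (W.ι ≫ u.left)) : LocallyOfFinitePresentation u.left := by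
  have := subsingleton_spec_local_artin A
  have : IsLocallyNoetherian (Spec (CommRingCat.of A)) := inferInstance
  have : LocallyOfFinitePresentation G.hom := inferInstance
  exact lfp_of_restrict u W hW h

theorem smooth_of_restrict [Flat G.hom] (hW : (W : Set G.left).Nonempty)
    (h : Smooth (W.ι ≫ u.left)) : Smooth u.left := by
  have := subsingleton_spec_local_artin A
  have : LocallyOfFinitePresentation u.left := lfp_of_restrict_artinian u W hW inferInstance
  have : Flat u.left := flat_of_restrict u W hW inferInstance
  exact Smooth.of_smooth_fiberToSpecResidueField _ (fibres_of_restrict u W @Smooth hW h)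

theorem etale_of_restrict [Flat G.hom] (hW : (W : Set G.left).Nonempty)
    (h : Etale (W.ι ≫ u.left)) : Etale u.left := by
  have := subsingleton_spec_local_artin A
  have : LocallyOfFinitePresentation u.left := lfp_of_restrict_artinian u W hW inferInstance
  have : Flat u.left := flat_of_restrict u W hW inferInstance
  exact Etale.iff_flat_and_formallyUnramified.2
    ⟨inferInstance, formallyUnramified_of_restrict u W hW inferInstance, inferInstance⟩

end Groth.Agent.GrpLoc
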