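import Groth.Agent.GrpLoc.LftField
import Groth.Agent.GrpLoc.Point

/-!
# Local properties of flat group schemes over an artinian base hold everywhere
-/

universe u

open CategoryTheory CategoryTheory.Limits MonoidalCategory CartesianMonoidalCategory MonObj AlgebraicGeometry
open scoped CategoryTheory.Obj
open TensorProduct

set_option backward.isDefEq.respectTransparency false
set_option linter.style.haveILetI false

namespace Groth.Agent.GrpLoc

open Groth.Agent.GrpField

theorem finiteType_of_residue {A B : Type u} [CommRing A] [IsArtinianRing A] [IsLocalRing A]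
    [CommRing B] [Algebra A B]
    (h : (Algebra.TensorProduct.includeRight :
      IsLocalRing.ResidueField A →ₐ[A] B ⊗[A] IsLocalRing.ResidueField A).toRingHom.FiniteType) :
    Algebra.FiniteType A B := by
  classical
  let C := B ⊗[A] IsLocalRing.ResidueField A
  let π : B →ₐ[A] C := Algebra.TensorProduct.includeLeft
  have hπ : Function.Surjective π := by
    intro x
    induction x using TensorProduct.induction_on with
    | zero => exact ⟨0, map_zero _⟩
    | tmul b r =>
      obtain ⟨a, rfl⟩ := IsLocalRing.residue_surjective r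
      refine ⟨a • b, ?_⟩
      show (a • b) ⊗ₜ[A] (1 : IsLocalRing.ResidueField A) = b ⊗ₜ IsLocalRing.residue A a
      rw [TensorProduct.smul_tmul, Algebra.smul_def, _root_.mul_one]
      rfl
    | add x y hx hy =>
      obtain ⟨u, rfl⟩ := hx
      obtain ⟨v, rfl⟩ := hy
      exact ⟨u + v, map_add _ _ _⟩
  letI : Algebra (IsLocalRing.ResidueField A) C := (Algebra.TensorProduct.includeRight :
      IsLocalRing.ResidueField A →ₐ[A] C).toRingHom.toAlgebra
  haveI : Algebra.FiniteType (IsLocalRing.ResidueField A) C := h
  obtain ⟨s, hs⟩ := (inferInstance : Algebra.FiniteType (IsLocalRing.ResidueField A) C).out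
  choose l hl using hπ
  let B₀ := Algebra.adjoin A ((s.image l : Finset B) : Set B)
  have hB₀ : ∀ c : C, ∃ b ∈ B₀, π b = c := by
    intro c
    have hc : c ∈ Algebra.adjoin (IsLocalRing.ResidueField A) (s : Set C) := hs ▸ Algebra.mem_top
    induction hc using Algebra.adjoin_induction with
    | mem x hx => exact ⟨l x, Algebra.subset_adjoin (Finset.mem_image_of_mem l hx), hl x⟩
    | algebraMap r =>
      obtain ⟨a, rfl⟩ := IsLocalRing.residue_surjective r
      refine ⟨algebraMap A B a, Subalgebra.algebraMap_mem _ a, ?_⟩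
      rw [AlgHom.commutes]
      exact ((Algebra.TensorProduct.includeRight :
        IsLocalRing.ResidueField A →ₐ[A] C).commutes a).symm
    | add x y _ _ hx hy =>
      obtain ⟨u, hu, rfl⟩ := hx; obtain ⟨v, hv, rfl⟩ := hy
      exact ⟨u + v, add_mem hu hv, map_add _ _ _⟩
    | mul x y _ _ hx hy =>
      obtain ⟨u, hu, rfl⟩ := hx; obtain ⟨v, hv, rfl⟩ := hy
      exact ⟨u * v, mul_mem hu hv, map_mul _ _ _⟩
  let m := IsLocalRing.maximalIdeal A
  let M : Submodule A B := m • ⊤
  have hker : ∀ b : B, π b = 0 → b ∈ M := by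
    intro b hb
    let e : B ⊗[A] IsLocalRing.ResidueField A ≃ₗ[A] B ⧸ M :=
      TensorProduct.comm A _ _ ≪≫ₗ TensorProduct.quotTensorEquivQuotSMul B m
    have : e (b ⊗ₜ 1) = Submodule.Quotient.mk b := by
      show TensorProduct.quotTensorEquivQuotSMul B m ((Ideal.Quotient.mk m 1) ⊗ₜ b) = _
      rw [TensorProduct.quotTensorEquivQuotSMul_mk_tmul, one_smul]
    rw [show b ⊗ₜ[A] (1 : IsLocalRing.ResidueField A) = π b from rfl, hb, map_zero] at this
    exact (Submodule.Quotient.mk_eq_zero M).1 this.symm
  have hstep : ∀ n : ℕ, (⊤ : Submodule A B) ≤ Subalgebra.toSubmodule B₀ ⊔ m ^ n • ⊤ := by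
    intro n
    induction n with
    | zero =>
      rw [pow_zero, Ideal.one_eq_top, Submodule.top_smul]
      exact le_sup_right
    | succ n ih =>
      refine ih.trans (sup_le le_sup_left ?_)
      calc m ^ n • (⊤ : Submodule A B) ≤ m ^ n • (Subalgebra.toSubmodule B₀ ⊔ M) := by
            refine Submodule.smul_mono le_rfl fun b _ => ?_
            obtain ⟨b₀, hb₀, hb⟩ := hB₀ (π b)
            exact Submodule.mem_sup.2 ⟨b₀, hb₀, b - b₀, hker _ (by rw [map_sub, hb, sub_self]), by abel⟩
        _ ≤ Subalgebra.toSubmodule B₀ ⊔ m ^ (n + 1) • ⊤ := by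
            rw [Submodule.smul_sup]
            refine sup_le (le_sup_of_le_left Submodule.smul_le_right) (le_sup_of_le_right ?_)
            rw [pow_succ, Submodule.mul_smul]
  obtain ⟨n, hn⟩ := IsArtinianRing.isNilpotent_jacobson_bot (R := A)
  refine ⟨⟨s.image l, eq_top_iff.2 fun b _ => ?_⟩⟩
  have := hstep n (Submodule.mem_top (x := b))
  rw [show m ^ n = (⊥ : Ideal A) by
    rw [show m = IsLocalRing.maximalIdeal A from rfl,
      ← IsLocalRing.jacobson_eq_maximalIdeal (⊥ : Ideal A) bot_ne_top]; exact hn,
    Submodule.bot_smul, sup_bot_eq] at this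
  exact this

variable {A : Type u} [CommRing A] [IsArtinianRing A] [IsLocalRing A]

theorem locallyOfFiniteType_of_bc {X : Scheme.{u}} (h : X ⟶ Spec (CommRingCat.of A))
    (hk : LocallyOfFiniteType (pullback.snd h (toRes A))) : LocallyOfFiniteType h := by
  rw [HasRingHomProperty.iff_of_source_openCover (P := @LocallyOfFiniteType) X.affineCover]
  intro i
  let B := Γ(X.affineCover.X i, ⊤)
  obtain ⟨φ, hφ⟩ := Spec.map_surjective ((X.affineCover.X i).isoSpec.inv ≫ X.affineCover.f i ≫ h)
  have hfi : X.affineCover.f i ≫ h = (X.affineCover.X i).isoSpec.hom ≫ Spec.map φ := by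
    rw [hφ, Iso.hom_inv_id_assoc]
  rw [← HasRingHomProperty.iff_of_isAffine (P := @LocallyOfFiniteType), hfi,
    MorphismProperty.cancel_left_of_respectsIso @LocallyOfFiniteType,
    HasRingHomProperty.Spec_iff (P := @LocallyOfFiniteType)]
  let : Algebra A B := φ.hom.toAlgebra
  show Algebra.FiniteType A B
  refine finiteType_of_residue ?_
  let j : Spec (CommRingCat.of B) ⟶ X := (X.affineCover.X i).isoSpec.inv ≫ X.affineCover.f i
  have hj : Spec.map (CommRingCat.ofHom (algebraMap A B)) = j ≫ h := hφ.trans (Category.assoc _ _ _).symm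
  let mm : pullback (Spec.map (CommRingCat.ofHom (algebraMap A B))) (toRes A) ⟶ pullback h (toRes A) :=
    pullback.map _ _ _ _ j (𝟙 _) (𝟙 _) (by rw [hj]; simp) (by simp)
  have : IsOpenImmersion mm :=
    MorphismProperty.pullbackMap (P := @IsOpenImmersion) inferInstance inferInstance
      (by rw [hj]) (by simp)
  have h1 : LocallyOfFiniteType (pullback.snd (Spec.map (CommRingCat.ofHom (algebraMap A B))) (toRes A)) := by
    rw [show pullback.snd (Spec.map (CommRingCat.ofHom (algebraMap A B))) (toRes A) =
      mm ≫ pullback.snd h (toRes A) by simp [mm]]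
    exact MorphismProperty.comp_mem _ _ _ inferInstance hk
  have h2 : LocallyOfFiniteType ((pullbackSpecIso A B (IsLocalRing.ResidueField A)).inv ≫
      pullback.snd (Spec.map (CommRingCat.ofHom (algebraMap A B))) (toRes A)) :=
    MorphismProperty.comp_mem _ _ _ inferInstance h1
  rw [show (pullbackSpecIso A B (IsLocalRing.ResidueField A)).inv ≫
      pullback.snd (Spec.map (CommRingCat.ofHom (algebraMap A B))) (toRes A) = Spec.map (CommRingCat.ofHom
        (Algebra.TensorProduct.includeRight :
          IsLocalRing.ResidueField A →ₐ[A] B ⊗[A] IsLocalRing.ResidueField A).toRingHom) from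
      pullbackSpecIso_inv_snd .., HasRingHomProperty.Spec_iff (P := @LocallyOfFiniteType)] at h2
  exact h2

/-- A group scheme over a local artinian ring locally of finite type on a nonempty open is so
everywhere. -/
theorem locallyOfFiniteType_of_restrict_artinian (G : Over (Spec (CommRingCat.of A))) [GrpObj G]
    (W : G.left.Opens) (hW : (W : Set G.left).Nonempty) (h : LocallyOfFiniteType (W.ι ≫ G.hom)) :
    LocallyOfFiniteType G.hom := by
  let p := pullback.fst G.hom (toRes A)
  have : Surjective p := MorphismProperty.pullback_fst _ _ inferInstance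
  refine locallyOfFiniteType_of_bc G.hom ?_
  exact GrpLoc.locallyOfFiniteType_of_restrict ((Over.pullback (toRes A)).obj G) (p ⁻¹ᵁ W)
    (hW.preimage p.surjective) (MorphismProperty.of_isPullback
      ((isPullback_morphismRestrict p W).paste_vert (IsPullback.of_hasPullback G.hom (toRes A))) h)

end Groth.Agent.GrpLoc
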