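import Groth.Agent.GrpLoc.Point
import Groth.Agent.Assoc.Kernel
import Groth.Agent.SmDesc.Scheme
import Groth.Agent.UnramPt.Basic
import Groth.Agent.GoingDown.Dedekind
import Groth.Agent.Grpd.FlatComp
import Mathlib.AlgebraicGeometry.Morphisms.UniversallyOpen

/-!
# The maximal open where a homomorphism of group schemes has a property
-/

universe u

open CategoryTheory CategoryTheory.Limits MonoidalCategory CartesianMonoidalCategory MonObj AlgebraicGeometry

set_option backward.isDefEq.respectTransparency false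

namespace Groth.Agent.GrpLoc

variable {S : Scheme.{u}} {G H : Over S}

/-- a field-valued point through a point -/
theorem exists_fieldPt (X : Over S) (x : X.left) :
    ∃ (T : Over S) (t : T.left) (a : T ⟶ X), a.left t = x := by
  obtain ⟨t⟩ : Nonempty (Spec (X.left.residueField x)) :=
    inferInstanceAs (Nonempty (PrimeSpectrum _))
  exact ⟨Over.mk (X.left.fromSpecResidueField x ≫ X.hom), t,
    Over.homMk (X.left.fromSpecResidueField x) rfl, Scheme.fromSpecResidueField_apply x t⟩

variable [GrpObj G] [GrpObj H] (u : G ⟶ H) [IsMonHom u] (V : G.left.Opens)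

/-- the open `V` as an object over the base -/
noncomputable abbrev pieceOb : Over S := Over.mk (V.ι ≫ G.hom)

/-- the inclusion of `V` -/
noncomputable abbrev pieceι : pieceOb V ⟶ G := Over.homMk V.ι

/-- `(x, v) ↦ x v` -/
noncomputable abbrev transMap : G ⊗ pieceOb V ⟶ G :=
  (GrpField.trR (pieceι V)).hom ≫ fst G (pieceOb V)

/-- pairs `(x, v)` with `x v ∈ V` -/
noncomputable def transOpen : (G ⊗ pieceOb V).left.Opens := (transMap V).left ⁻¹ᵁ V

/-- points `x` with `x v ∈ V` for some `v ∈ V` -/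
noncomputable def transImage [UniversallyOpen (V.ι ≫ G.hom)] : G.left.Opens :=
  ⟨(fst G (pieceOb V)).left '' (transOpen V : Set _),
    (have : UniversallyOpen (fst G (pieceOb V)).left := MorphismProperty.pullback_fst G.hom _ ‹_›
     (fst G (pieceOb V)).left.isOpenMap) _ (transOpen V).2⟩

/-- the property on the translated open -/
theorem transOpen_prop (P : MorphismProperty Scheme.{u}) [IsZariskiLocalAtSource P]
    [P.IsStableUnderBaseChange] (hV : P (V.ι ≫ u.left)) :
    P ((transOpen V).ι ≫ (u ▷ pieceOb V).left) := by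
  let e := GrpField.trR (pieceι V)
  let e' := GrpField.trR (pieceι V ≫ u)
  have hcomm : e.hom ≫ (u ▷ pieceOb V) = (u ▷ pieceOb V) ≫ e'.hom := by
    apply CartesianMonoidalCategory.hom_ext <;> simp [e, e', GrpField.trR, MonObj.mul_comp, MonObj.comp_mul]
  have : IsIso e.hom.left := ((Over.forget S).mapIso e).isIso_hom
  have : IsIso e'.hom.left := ((Over.forget S).mapIso e').isIso_hom
  have h1 : P (((fst G (pieceOb V)).left ⁻¹ᵁ V).ι ≫ (u ▷ pieceOb V).left) :=
    MorphismProperty.of_isPullback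
      ((isPullback_morphismRestrict (fst G (pieceOb V)).left V).paste_vert
        (Assoc.isPullback_whiskerRight u)) hV
  rw [← P.cancel_right_of_respectsIso _ e'.hom.left, Category.assoc, ← Over.comp_left, ← hcomm,
    Over.comp_left]
  show P ((e.hom.left ⁻¹ᵁ ((fst G (pieceOb V)).left ⁻¹ᵁ V)).ι ≫ e.hom.left ≫ (u ▷ pieceOb V).left)
  rw [← Category.assoc, ← morphismRestrict_ι, Category.assoc]
  exact IsZariskiLocalAtSource.comp h1 _

omit [GrpObj H] in
theorem mem_transImage [UniversallyOpen (V.ι ≫ G.hom)] {T : Over S} (t : T.left) (a b : T ⟶ G)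
    (hb : ∀ t, b.left t ∈ V) (hab : (a * b).left t ∈ V) : a.left t ∈ transImage V := by
  have hr : Set.range b.left ⊆ Set.range V.ι := by
    rintro _ ⟨t, rfl⟩
    rw [Scheme.Opens.range_ι]
    exact hb t
  let b' : T ⟶ pieceOb V := Over.homMk (IsOpenImmersion.lift V.ι b.left hr)
    (by show _ ≫ V.ι ≫ G.hom = _; rw [IsOpenImmersion.lift_fac_assoc, Over.w b])
  have hb' : b' ≫ pieceι V = b := by
    ext1; exact IsOpenImmersion.lift_fac _ _ _
  refine ⟨(lift a b').left t, ?_, ?_⟩
  · show (transMap V).left ((lift a b').left t) ∈ V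
    rw [← Scheme.Hom.comp_apply, ← Over.comp_left,
      show lift a b' ≫ transMap V = a * b by
        show lift a b' ≫ lift (fst G (pieceOb V) * (snd G (pieceOb V) ≫ pieceι V)) (snd G (pieceOb V)) ≫
          fst G (pieceOb V) = _
        rw [lift_fst, MonObj.comp_mul, lift_fst, lift_snd_assoc, hb']]
    exact hab
  · rw [← Scheme.Hom.comp_apply, ← Over.comp_left, lift_fst]

omit [IsMonHom u] [GrpObj H] in
/-- the translated open covers its image -/
theorem exists_transLift [UniversallyOpen (V.ι ≫ G.hom)] :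
    ∃ q : (transOpen V : Scheme.{u}) ⟶ (transImage V : Scheme.{u}),
      q ≫ (transImage V).ι = (transOpen V).ι ≫ (fst G (pieceOb V)).left ∧ Surjective q ∧
        q ≫ (transImage V).ι ≫ u.left =
          ((transOpen V).ι ≫ (u ▷ pieceOb V).left) ≫ (fst H (pieceOb V)).left := by
  let q : (transOpen V : Scheme.{u}) ⟶ (transImage V : Scheme.{u}) :=
    IsOpenImmersion.lift (transImage V).ι ((transOpen V).ι ≫ (fst G (pieceOb V)).left) (by
      rintro _ ⟨z, rfl⟩
      rw [Scheme.Opens.range_ι]
      exact ⟨_, z.2, rfl⟩)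
  have hq : q ≫ (transImage V).ι = (transOpen V).ι ≫ (fst G (pieceOb V)).left :=
    IsOpenImmersion.lift_fac _ _ _
  refine ⟨q, hq, ⟨fun w => ?_⟩, ?_⟩
  · obtain ⟨z, hz, hzw⟩ := w.2
    refine ⟨⟨z, hz⟩, (transImage V).ι.isOpenEmbedding.injective ?_⟩
    rw [← Scheme.Hom.comp_apply, hq]
    exact hzw
  · rw [← Category.assoc, hq, Category.assoc, Category.assoc, ← Over.comp_left, ← Over.comp_left,
      whiskerRight_fst]

/-- flatness and finite presentation on the translated image -/
theorem flatFP_transImage [Flat (V.ι ≫ G.hom)] [LocallyOfFinitePresentation (V.ι ≫ G.hom)]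
    [Flat (V.ι ≫ u.left)] [LocallyOfFinitePresentation (V.ι ≫ u.left)] :
    Flat ((transImage V).ι ≫ u.left) ∧ LocallyOfFinitePresentation ((transImage V).ι ≫ u.left) := by
  have hfstG : Flat (fst G (pieceOb V)).left ∧ LocallyOfFinitePresentation (fst G (pieceOb V)).left :=
    ⟨MorphismProperty.pullback_fst G.hom _ ‹_›, MorphismProperty.pullback_fst G.hom _ ‹_›⟩
  have hfstH : Flat (fst H (pieceOb V)).left ∧ LocallyOfFinitePresentation (fst H (pieceOb V)).left :=
    ⟨MorphismProperty.pullback_fst H.hom _ ‹_›, MorphismProperty.pullback_fst H.hom _ ‹_›⟩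
  have := hfstG.1
  have := hfstG.2
  have := hfstH.1
  have := hfstH.2
  have h1 : Flat ((transOpen V).ι ≫ (u ▷ pieceOb V).left) := transOpen_prop u V @Flat ‹_›
  have h2 : LocallyOfFinitePresentation ((transOpen V).ι ≫ (u ▷ pieceOb V).left) :=
    transOpen_prop u V @LocallyOfFinitePresentation ‹_›
  obtain ⟨q, hq, hs, hqu⟩ := exists_transLift u V
  have : Flat q := MorphismProperty.of_postcomp (W := @Flat) (W' := @IsOpenImmersion) _
    (transImage V).ι inferInstance (by rw [hq]; infer_instance)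
  have : LocallyOfFinitePresentation q := MorphismProperty.of_postcomp
    (W := @LocallyOfFinitePresentation) (W' := @IsOpenImmersion) _ (transImage V).ι inferInstance
    (by rw [hq]; infer_instance)
  have : Flat (q ≫ (transImage V).ι ≫ u.left) := by rw [hqu]; infer_instance
  have : LocallyOfFinitePresentation (q ≫ (transImage V).ι ≫ u.left) := by rw [hqu]; infer_instance
  exact ⟨GrpdLib.flat_of_flat_comp q _, FppfSource.lfp q _⟩

/-- universal openness on the translated image -/
theorem universallyOpen_transImage [UniversallyOpen (V.ι ≫ G.hom)] [UniversallyOpen (V.ι ≫ u.left)] :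
    UniversallyOpen ((transImage V).ι ≫ u.left) := by
  have : UniversallyOpen (fst H (pieceOb V)).left := MorphismProperty.pullback_fst H.hom _ ‹_›
  have : UniversallyOpen ((transOpen V).ι ≫ (u ▷ pieceOb V).left) :=
    transOpen_prop u V @UniversallyOpen ‹_›
  obtain ⟨q, -, hs, hqu⟩ := exists_transLift u V
  have : UniversallyOpen (q ≫ (transImage V).ι ≫ u.left) := by rw [hqu]; infer_instance
  exact GoingDown.universallyOpen_of_comp_surjective q _

/-- smoothness and unramifiedness on the translated image -/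
theorem smooth_transImage [Flat (V.ι ≫ G.hom)] [LocallyOfFinitePresentation (V.ι ≫ G.hom)]
    [Smooth (V.ι ≫ u.left)] : Smooth ((transImage V).ι ≫ u.left) := by
  obtain ⟨hf, hfp⟩ := flatFP_transImage u V
  let W := transImage V
  have : Flat (fst H (pieceOb V)).left := MorphismProperty.pullback_fst H.hom _ ‹_›
  have hO : Smooth ((transOpen V).ι ≫ (u ▷ pieceOb V).left) := transOpen_prop u V @Smooth ‹_›
  let p := (fst G (pieceOb V)).left
  have sq := (isPullback_morphismRestrict p W).paste_vert (Assoc.isPullback_whiskerRight (Z := pieceOb V) u)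
  let f' := (p ⁻¹ᵁ W).ι ≫ (u ▷ pieceOb V).left
  have : LocallyOfFinitePresentation f' := MorphismProperty.of_isPullback sq hfp
  rw [← Scheme.Hom.smoothLocus_eq_top_iff, eq_top_iff]
  intro w _
  obtain ⟨z, hz, hzw⟩ := w.2
  let z' : ↑(p ⁻¹ᵁ W) := ⟨z, show p z ∈ W by rw [hzw]; exact w.2⟩
  have hU : Smooth (((p ⁻¹ᵁ W).ι ⁻¹ᵁ transOpen V).ι ≫ f') := by
    rw [← Category.assoc, ← morphismRestrict_ι, Category.assoc]
    exact IsZariskiLocalAtSource.comp hO _
  have h1 := SmDesc.mem_smoothLocus_of_isPullback sq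
    (SmDesc.mem_smoothLocus_of_smooth_ι f' (x := z') (U := (p ⁻¹ᵁ W).ι ⁻¹ᵁ transOpen V) hz)
  have h2 : (p ∣_ W) z' = w := W.ι.isOpenEmbedding.injective
    ((congrArg (fun k : (p ⁻¹ᵁ W : Scheme.{u}) ⟶ G.left => k z') (morphismRestrict_ι p W)).trans hzw)
  rwa [h2] at h1

theorem etale_transImage [Flat (V.ι ≫ G.hom)] [LocallyOfFinitePresentation (V.ι ≫ G.hom)]
    [Etale (V.ι ≫ u.left)] : Etale ((transImage V).ι ≫ u.left) := by
  obtain ⟨hf, hfp⟩ := flatFP_transImage u V
  let W := transImage V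
  have hO : FormallyUnramified ((transOpen V).ι ≫ (u ▷ pieceOb V).left) :=
    transOpen_prop u V @FormallyUnramified inferInstance
  let p := (fst G (pieceOb V)).left
  have sq := (isPullback_morphismRestrict p W).paste_vert (Assoc.isPullback_whiskerRight (Z := pieceOb V) u)
  have hex : ∀ w : W, ∃ U : (W : Scheme.{u}).Opens, w ∈ U ∧ FormallyUnramified (U.ι ≫ W.ι ≫ u.left) := by
    intro w
    obtain ⟨z, hz, hzw⟩ := w.2
    let z' : ↑(p ⁻¹ᵁ W) := ⟨z, show p z ∈ W by rw [hzw]; exact w.2⟩
    let U₀ := sq.isoPullback.inv ⁻¹ᵁ ((p ⁻¹ᵁ W).ι ⁻¹ᵁ transOpen V)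
    have hz' : sq.isoPullback.hom z' ∈ U₀ := by
      show sq.isoPullback.inv (sq.isoPullback.hom z') ∈ (p ⁻¹ᵁ W).ι ⁻¹ᵁ transOpen V
      rw [← Scheme.Hom.comp_apply, Iso.hom_inv_id]
      exact hz
    obtain ⟨U, hU, hUu⟩ := UnramPt.exists_nhd_of_baseChange (W.ι ≫ u.left) _ _ U₀ hz' (by
      rw [← sq.isoPullback_inv_snd, ← Category.assoc, ← morphismRestrict_ι, Category.assoc,
        ← Category.assoc ((p ⁻¹ᵁ W).ι ⁻¹ᵁ transOpen V).ι, ← morphismRestrict_ι, Category.assoc]
      exact MorphismProperty.comp_mem _ _ _ inferInstance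
        (IsZariskiLocalAtSource.comp hO _))
    refine ⟨U, ?_, hUu⟩
    have h2 : (p ∣_ W) z' = w := W.ι.isOpenEmbedding.injective
      ((congrArg (fun k : (p ⁻¹ᵁ W : Scheme.{u}) ⟶ G.left => k z') (morphismRestrict_ι p W)).trans hzw)
    rwa [← Scheme.Hom.comp_apply, sq.isoPullback_hom_fst, h2] at hU
  choose U hwU hU using hex
  have : FormallyUnramified (W.ι ≫ u.left) :=
    IsZariskiLocalAtSource.of_iSup_eq_top U
      (top_le_iff.1 fun w _ => TopologicalSpace.Opens.mem_iSup.2 ⟨w, hwU w⟩) hU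
  exact Etale.iff_flat_and_formallyUnramified.2 ⟨hf, this, hfp⟩

omit [GrpObj H] in
/-- The subgroup laws for an open containing its translated image. -/
theorem subgroup_of_transImage_le [UniversallyOpen (V.ι ≫ G.hom)] (hle : transImage V ≤ V) :
    IsOpen (G.hom.base '' (V : Set G.left)) ∧
    (∀ g ∈ V, ∀ p : ↥(𝟙_ (Over S)).left, (𝟙_ (Over S)).hom.base p = G.hom.base g → η[G].left.base p ∈ V) ∧
    (∀ g ∈ V, GrpObj.inv (X := G).left.base g ∈ V) ∧
    (∀ z : ↥(G ⊗ G).left, (fst G G).left.base z ∈ V → (snd G G).left.base z ∈ V → μ[G].left.base z ∈ V) := by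
  have key : ∀ {T : Over S} [Subsingleton T.left] (t : T.left) (a b : T ⟶ G),
      b.left t ∈ V → (a * b).left t ∈ V → a.left t ∈ V := fun t a b hb hab =>
    hle (mem_transImage V t a b (fun t' => by rwa [Subsingleton.elim t' t]) hab)
  have hT : ∀ (X : Over S) (x : X.left), ∃ (T : Over S) (_ : Subsingleton T.left) (t : T.left) (a : T ⟶ X),
      a.left t = x := fun X x =>
    ⟨Over.mk (X.left.fromSpecResidueField x ≫ X.hom), inferInstanceAs (Subsingleton (PrimeSpectrum _)),
      (Classical.arbitrary (PrimeSpectrum (X.left.residueField x))),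
      Over.homMk (X.left.fromSpecResidueField x) rfl, Scheme.fromSpecResidueField_apply x _⟩
  have he : ∀ {T : Over S} [Subsingleton T.left] (t : T.left) (a : T ⟶ G),
      a.left t ∈ V → (1 : T ⟶ G).left t ∈ V := fun t a ha => key t 1 a ha (by rwa [_root_.one_mul])
  have hinv : ∀ {T : Over S} [Subsingleton T.left] (t : T.left) (a : T ⟶ G),
      a.left t ∈ V → (a⁻¹).left t ∈ V := fun t a ha =>
    key t a⁻¹ a ha (by rw [inv_mul_cancel]; exact he t a ha)
  refine ⟨?_, fun g hg p hp => ?_, fun g hg => ?_, fun z h1 h2 => ?_⟩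
  · have : G.hom.base '' (V : Set G.left) = Set.range (V.ι ≫ G.hom) := by
      rw [Scheme.Hom.comp_base, TopCat.coe_comp, Set.range_comp, Scheme.Opens.range_ι]
    rw [this]
    exact (V.ι ≫ G.hom).isOpenMap.isOpen_range
  · obtain ⟨T, _, t, a, rfl⟩ := hT G g
    have h := he t a hg
    rw [Hom.one_def, Over.comp_left, Scheme.Hom.comp_apply] at h
    have hpt : (toUnit T).left t = p := by
      have e1 : (toUnit T).left ≫ (𝟙_ (Over S)).hom = a.left ≫ G.hom := (Over.w _).trans (Over.w a).symm
      have e2 := congrArg (fun k : T.left ⟶ S => k t) e1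
      have hinj : Function.Injective (𝟙_ (Over S)).hom.base := fun _ _ h => h
      exact hinj (e2.trans hp.symm)
    rwa [hpt] at h
  · obtain ⟨T, _, t, a, rfl⟩ := hT G g
    have h := hinv t a hg
    rw [show a⁻¹ = a ≫ GrpObj.inv (X := G) from rfl, Over.comp_left, Scheme.Hom.comp_apply] at h
    exact h
  · obtain ⟨T, _, t, c, rfl⟩ := hT (G ⊗ G) z
    have h2' : (c ≫ snd G G).left t ∈ V := h2
    have := key t ((c ≫ fst G G) * (c ≫ snd G G)) (c ≫ snd G G)⁻¹ (hinv t _ h2')
      (by rw [mul_inv_cancel_right]; exact h1)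
    rwa [← MonObj.comp_mul, ← show μ[G] = fst G G * snd G G by simp [Hom.mul_def],
      Over.comp_left, Scheme.Hom.comp_apply] at this

end Groth.Agent.GrpLoc
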